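import Groth.Agent.Etbc.H188.FlatHull
import Groth.Agent.Sga1.UlaSL
import Groth.Agent.Pi1C.StrictHensConn
import Groth.Agent.S0088
import Groth.Agent.S0539

/-!
# Zero-dimensional bases

`IsZD P`: `P` is affine, its local rings are fields and its residue fields are separably closed.

* `IsZD.isStrictLoc`: `Spec κ(t) ⟶ P` is a strict localization;
* `IsZD.of_weaklyEtale`: stability under affine weakly étale morphisms;
* `IsZD.subsingleton_H`: étale cohomology vanishes in positive degrees;
* `AlgRes b`: the residue field extensions of `b` are algebraic;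
* `exists_cover`: every affine scheme has a surjective affine cover by a zero-dimensional base, with
  algebraic residue field extensions.
-/

set_option autoImplicit false
universe u

open CategoryTheory CategoryTheory.Limits AlgebraicGeometry Opposite IsLocalRing

namespace Groth.Agent.Etbc.H188.ZDBase

open Groth.Agent.Etrest.StrictLoc Groth.Agent.Sga1.UlaSL

/-- Affine schemes whose local rings are fields and whose residue fields are separably closed. -/
structure IsZD (P : Scheme.{u}) : Prop where
  affine : IsAffine P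
  isField : ∀ t : P, IsField (P.presheaf.stalk t)
  sepClosed : ∀ t : P, IsSepClosed (P.residueField t)

theorem isSepClosed_of_bijective {k K : Type u} [Field k] [Field K] [IsSepClosed k] (i : k →+* K)
    (hi : Function.Bijective i) : IsSepClosed K := by
  refine IsSepClosed.of_exists_root K fun p hp hirr hsep => ?_
  let e : k ≃+* K := RingEquiv.ofBijective i hi
  have h1 : (p.map e.symm.toRingHom).Separable := hsep.map
  have h2 : (p.map e.symm.toRingHom).degree ≠ 0 := by
    rw [Polynomial.degree_map]
    exact (Polynomial.degree_pos_of_irreducible hirr).ne'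
  obtain ⟨x, hx⟩ := IsSepClosed.exists_root _ h2 h1
  refine ⟨e x, ?_⟩
  have h3 : p = (p.map e.symm.toRingHom).map e.toRingHom := by
    rw [Polynomial.map_map]
    have : e.toRingHom.comp e.symm.toRingHom = RingHom.id _ := by ext; simp
    rw [this, Polynomial.map_id]
  rw [h3]
  change Polynomial.eval (e.toRingHom x) _ = 0
  rw [Polynomial.eval_map, Polynomial.eval₂_hom]
  rw [Polynomial.IsRoot] at hx
  rw [hx, map_zero]

theorem bijective_residue {R : Type u} [CommRing R] [IsLocalRing R] (h : IsField R) :
    Function.Bijective (residue R) := by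
  refine ⟨?_, residue_surjective⟩
  rw [injective_iff_map_eq_zero]
  intro a ha
  rw [residue_eq_zero_iff, (isField_iff_maximalIdeal_eq).1 h] at ha
  exact ha

variable {P : Scheme.{u}}

theorem weaklyEtale_fromSpecResidueField {P : Scheme.{u}} (t : P) (h : IsField (P.presheaf.stalk t)) :
    WeaklyEtale (P.fromSpecResidueField t) := by
  have h1 : IsIso (P.residue t) := (ConcreteCategory.isIso_iff_bijective _).2 (bijective_residue h)
  have h2 := Groth.Agent.Pi1C.StrictHensConn.weaklyEtale_fromSpecStalk P t
  unfold Scheme.fromSpecResidueField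
  infer_instance

theorem isStrictLoc_id_field (K : Type u) [Field K] [IsSepClosed K] :
    IsStrictLoc (𝟙 (Spec (CommRingCat.of K))) := by
  have h3 : IsSepClosed (ResidueField K) :=
    isSepClosed_of_bijective (residue K) (bijective_residue (Field.toIsField _))
  exact isStrictLoc_id K

theorem IsZD.isStrictLoc (hP : IsZD P) (t : P) :
    IsStrictLoc (R := ResidueField (P.presheaf.stalk t)) (P.fromSpecResidueField t) := by
  have h1 := weaklyEtale_fromSpecResidueField t (hP.isField t)
  have h2 : IsSepClosed (ResidueField (P.presheaf.stalk t)) := hP.sepClosed t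
  exact (isStrictLoc_id_field (ResidueField (P.presheaf.stalk t))).comp
    (P.fromSpecResidueField t) (hq := h1)

theorem IsZD.exists_isStrictLoc (hP : IsZD P) (t : P) :
    ∃ (K : Type u) (_ : Field K) (_ : IsSepClosed K) (τ : Spec (CommRingCat.of K) ⟶ P),
      IsStrictLoc τ ∧ τ (closedPoint K) = t :=
  ⟨ResidueField (P.presheaf.stalk t), inferInstance, hP.sepClosed t, P.fromSpecResidueField t,
    hP.isStrictLoc t, Scheme.fromSpecResidueField_apply t _⟩

theorem IsZD.isClosed_singleton (hP : IsZD P) (t : P) : IsClosed ({t} : Set P) := by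
  have key : ∀ t' t'' : P, t' ⤳ t'' → t' = t'' := by
    intro t' t'' h
    have h1 : t' ∈ Set.range (P.fromSpecStalk t'') := by
      rw [Scheme.range_fromSpecStalk]
      exact h
    obtain ⟨p, hp⟩ := h1
    have h2 : p = closedPoint (P.presheaf.stalk t'') := by
      apply PrimeSpectrum.ext
      have hf := hP.isField t''
      have h3 : p.asIdeal = ⊥ := by
        let _ := hf.toField
        exact p.asIdeal.eq_bot_of_prime
      have h4 : (closedPoint (P.presheaf.stalk t'')).asIdeal = ⊥ :=
        (isField_iff_maximalIdeal_eq).1 hf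
      rw [h3, h4]
    rw [← hp, h2]
    exact Scheme.fromSpecStalk_closedPoint
  rw [← closure_subset_iff_isClosed]
  intro t'' h
  exact (key t t'' (specializes_iff_mem_closure.2 h)).symm

theorem IsZD.subsingleton_H (hP : IsZD P) (G : EtCoh.Ab P) (q : ℕ) (hq : 0 < q) :
    Subsingleton (EtCoh.H P G q) :=
  have := hP.affine
  Groth.Agent.S0088.result P hP.isClosed_singleton hP.sepClosed G q hq

theorem bijective_residueFieldMap_of_weaklyEtale (hP : IsZD P) {P₁ : Scheme.{u}} (q : P₁ ⟶ P)
    [WeaklyEtale q] (t : P₁) :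
    IsField (P₁.presheaf.stalk t) ∧ Function.Bijective (q.residueFieldMap t).hom := by
  obtain ⟨C, _, _, τ, hτ, ht⟩ := exists_isStrictLoc P₁ t
  have h1 := hτ.comp q
  have h2 : P.fromSpecResidueField (q t) (closedPoint (ResidueField (P.presheaf.stalk (q t)))) =
      (τ ≫ q) (closedPoint C) := by
    rw [Scheme.Hom.comp_apply, ht]
    exact Scheme.fromSpecResidueField_apply _ _
  obtain ⟨g, hg, hgb, hgτ⟩ := (hP.isStrictLoc (q t)).exists_equiv h1 h2
  have hCf : IsField C := by
    refine ⟨⟨0, 1, zero_ne_one⟩, fun x y => mul_comm x y, fun {y} hy => ?_⟩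
    obtain ⟨x, rfl⟩ := hgb.2 y
    have hx : x ≠ 0 := fun h => hy (by rw [h, map_zero])
    exact ⟨g x⁻¹, by rw [← map_mul, mul_inv_cancel₀ hx, map_one]⟩
  obtain ⟨_, _, hsh, hs⟩ := exists_specOf hτ t ht
  have hff := Groth.Agent.S0539.result (P₁.presheaf.stalk t) C
  have hinj : Function.Injective (algebraMap (P₁.presheaf.stalk t) C) :=
    FaithfulSMul.algebraMap_injective _ _
  have hF : IsField (P₁.presheaf.stalk t) := by
    refine ⟨⟨0, 1, zero_ne_one⟩, fun x y => mul_comm x y, fun {y} hy => ?_⟩
    have h3 : algebraMap (P₁.presheaf.stalk t) C y ≠ 0 := fun h =>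
      hy (hinj (by rw [h, map_zero]))
    obtain ⟨z, hz⟩ := hCf.mul_inv_cancel h3
    have h4 : IsUnit (algebraMap (P₁.presheaf.stalk t) C y) := IsUnit.of_mul_eq_one _ hz
    have h5 : IsUnit y := isUnit_of_map_unit (algebraMap (P₁.presheaf.stalk t) C) y h4
    obtain ⟨w, hw⟩ := h5.exists_right_inv
    exact ⟨w, hw⟩
  refine ⟨hF, RingHom.injective _, ?_⟩
  let _ : Field C := hCf.toField
  obtain ⟨j, hj⟩ := exists_residueField_hom τ t ht
  have e : g = j.comp (q.residueFieldMap t).hom := by
    refine spm_inj.1 ((cancel_mono (P.fromSpecResidueField (q t))).1 ?_)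
    refine hgτ.trans ?_
    rw [← hj, Category.assoc, ← Scheme.Hom.SpecMap_residueFieldMap_fromSpecResidueField,
      ← Category.assoc]
    exact congrArg (· ≫ P.fromSpecResidueField (q t)) (Spec.map_comp _ _).symm
  intro y
  obtain ⟨x, hx⟩ := hgb.2 (j y)
  refine ⟨x, j.injective ?_⟩
  rw [← hx, e]
  rfl

theorem IsZD.of_weaklyEtale (hP : IsZD P) {P₁ : Scheme.{u}} (q : P₁ ⟶ P) [WeaklyEtale q]
    [IsAffine P₁] : IsZD P₁ where
  affine := inferInstance
  isField t := (bijective_residueFieldMap_of_weaklyEtale hP q t).1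
  sepClosed t :=
    have := hP.sepClosed (q t)
    isSepClosed_of_bijective _ (bijective_residueFieldMap_of_weaklyEtale hP q t).2

section AlgF

/-- Algebraic field extensions, for ring homomorphisms of fields. -/
def AlgF {k K : Type u} [Field k] [Field K] (i : k →+* K) : Prop :=
  letI := i.toAlgebra
  Algebra.IsAlgebraic k K

variable {k K L : Type u} [Field k] [Field K] [Field L]

theorem algF_algebraMap (k K : Type u) [Field k] [Field K] [a : Algebra k K] :
    AlgF (algebraMap k K) ↔ Algebra.IsAlgebraic k K := by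
  have : (algebraMap k K).toAlgebra = a := by
    apply Algebra.algebra_ext
    intro r
    rfl
  unfold AlgF
  rw [this]

theorem AlgF.comp {i : k →+* K} {j : K →+* L} (hi : AlgF i) (hj : AlgF j) : AlgF (j.comp i) := by
  let _ := i.toAlgebra
  let _ := j.toAlgebra
  let _ := (j.comp i).toAlgebra
  have : IsScalarTower k K L := IsScalarTower.of_algebraMap_eq fun _ => rfl
  have h1 : Algebra.IsAlgebraic k K := hi
  have h2 : Algebra.IsAlgebraic K L := hj
  exact Algebra.IsAlgebraic.trans k K L

theorem AlgF.of_comp {i : k →+* K} {j : K →+* L} (h : AlgF (j.comp i)) : AlgF j := by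
  let _ := i.toAlgebra
  let _ := j.toAlgebra
  let _ := (j.comp i).toAlgebra
  have : IsScalarTower k K L := IsScalarTower.of_algebraMap_eq fun _ => rfl
  have h1 : Algebra.IsAlgebraic k L := h
  exact Algebra.IsAlgebraic.tower_top (K := k) K

theorem AlgF.of_comp' {i : k →+* K} {j : K →+* L} (h : AlgF (j.comp i)) : AlgF i := by
  let _ := i.toAlgebra
  let _ := j.toAlgebra
  let _ := (j.comp i).toAlgebra
  have : IsScalarTower k K L := IsScalarTower.of_algebraMap_eq fun _ => rfl
  have h1 : Algebra.IsAlgebraic k L := h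
  exact Algebra.IsAlgebraic.tower_bot k K L

theorem AlgF.of_bijective {i : k →+* K} (h : Function.Surjective i) : AlgF i := by
  let _ := i.toAlgebra
  refine ⟨fun y => ?_⟩
  obtain ⟨x, rfl⟩ := h y
  exact isAlgebraic_algebraMap x

theorem algF_of_sepAlg {i : k →+* K} (h : SepAlg i) : AlgF i := by
  let _ := i.toAlgebra
  have := (sepAlg_iff' (i := i) rfl).1 h
  exact Algebra.IsSeparable.isAlgebraic k K

end AlgF

/-- The residue field extensions of a morphism are algebraic. -/
def AlgRes {X Y : Scheme.{u}} (b : X ⟶ Y) : Prop :=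
  ∀ x : X, AlgF (b.residueFieldMap x).hom

theorem AlgRes.comp {X Y Z : Scheme.{u}} {f : X ⟶ Y} {g : Y ⟶ Z} (hf : AlgRes f) (hg : AlgRes g) :
    AlgRes (f ≫ g) := fun x => by
  rw [Scheme.residueFieldMap_comp]
  exact (hg (f x)).comp (hf x)

theorem AlgRes.of_comp {X Y Z : Scheme.{u}} {f : X ⟶ Y} {g : Y ⟶ Z} (h : AlgRes (f ≫ g)) :
    AlgRes f := fun x => by
  have h1 := h x
  rw [Scheme.residueFieldMap_comp] at h1
  exact AlgF.of_comp (i := (g.residueFieldMap (f x)).hom) (j := (f.residueFieldMap x).hom) h1

theorem AlgRes.of_eq {X Y : Scheme.{u}} {f g : X ⟶ Y} (h : AlgRes f) (e : f = g) : AlgRes g :=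
  e ▸ h

/-- Residue field extensions of weakly étale morphisms are algebraic. -/
theorem algRes_of_weaklyEtale {X Y : Scheme.{u}} (q : X ⟶ Y) [WeaklyEtale q] : AlgRes q := by
  intro t
  obtain ⟨C, _, _, τ, hτ, ht⟩ := exists_isStrictLoc X t
  obtain ⟨x, i, hi, hs⟩ := (hτ.comp q).sep
  have hx : q t = x := by
    have h3 := congrArg (fun q => q (closedPoint (ResidueField C))) hi
    simp only [Scheme.Hom.comp_apply, resPt_closedPoint] at h3
    rw [ht] at h3
    exact h3.symm.trans (Scheme.fromSpecResidueField_apply x _)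
  subst hx
  obtain ⟨j, hj⟩ := exists_residueField_hom (resPt C ≫ τ) t (by
    rw [Scheme.Hom.comp_apply, resPt_closedPoint, ht])
  have e : i = j.comp (q.residueFieldMap t).hom := by
    rw [← spm_inj, ← cancel_mono (Y.fromSpecResidueField (q t))]
    refine hi.trans ?_
    rw [← Category.assoc, ← hj, Category.assoc,
      ← Scheme.Hom.SpecMap_residueFieldMap_fromSpecResidueField, ← Category.assoc]
    exact congrArg (· ≫ Y.fromSpecResidueField (q t)) (Spec.map_comp _ _).symm
  have h1 := algF_of_sepAlg hs
  rw [e] at h1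
  exact h1.of_comp'

section cover

variable (A : Type u) [CommRing A]

/-- The cover. -/
noncomputable abbrev cov : Spec (CommRingCat.of (FlatHull.B A)) ⟶ Spec (CommRingCat.of A) :=
  Spec.map (CommRingCat.ofHom (algebraMap A (FlatHull.B A)))

theorem isClosed_singleton_B (t : Spec (CommRingCat.of (FlatHull.B A))) : IsClosed ({t} : Set _) :=
  (PrimeSpectrum.isClosed_singleton_iff_isMaximal t).2 (FlatHull.isMaximal A t.asIdeal)

theorem isField_stalk_B (t : Spec (CommRingCat.of (FlatHull.B A))) :
    IsField ((Spec (CommRingCat.of (FlatHull.B A))).presheaf.stalk t) := by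
  have h1 := Groth.Agent.Etbase.ZeroDim.krullDimLE_zero_stalk (isClosed_singleton_B A) t
  have h2 : IsReduced (Spec (CommRingCat.of (FlatHull.B A))) := by
    rw [affine_isReduced_iff]
    exact inferInstanceAs (IsReduced (FlatHull.B A))
  have h3 : IsReduced ((Spec (CommRingCat.of (FlatHull.B A))).presheaf.stalk t) := inferInstance
  rw [isField_iff_maximalIdeal_eq, eq_bot_iff]
  intro x hx
  have h4 := Ring.KrullDimLE.isNilpotent_iff_mem_maximalIdeal.2 hx
  exact h4.eq_zero

/-- Evaluation of functions at a point. -/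
noncomputable def ev (R : Type u) [CommRing R] (t : Spec (CommRingCat.of R)) :
    R →+* (Spec (CommRingCat.of R)).residueField t :=
  ((Scheme.ΓSpecIso (CommRingCat.of R)).inv ≫ (Spec (CommRingCat.of R)).Γevaluation t).hom

theorem ev_comp {R S : Type u} [CommRing R] [CommRing S] (φ : R →+* S)
    (t : Spec (CommRingCat.of S)) :
    ((spm φ).residueFieldMap t).hom.comp (ev R (spm φ t)) = (ev S t).comp φ := by
  have h1 := Scheme.Γevaluation_naturality (spm φ) t
  have h2 := Scheme.ΓSpecIso_inv_naturality (CommRingCat.ofHom φ)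
  have h3 : (Scheme.ΓSpecIso (CommRingCat.of R)).inv ≫
      (Spec (CommRingCat.of R)).Γevaluation (spm φ t) ≫ (spm φ).residueFieldMap t =
      CommRingCat.ofHom φ ≫ (Scheme.ΓSpecIso (CommRingCat.of S)).inv ≫
        (Spec (CommRingCat.of S)).Γevaluation t := by
    rw [h1, ← Category.assoc, ← h2, Category.assoc]
  exact congrArg CommRingCat.Hom.hom h3

theorem ev_surjective {R : Type u} [CommRing R] (t : Spec (CommRingCat.of R))
    (h : t.asIdeal.IsMaximal) : Function.Surjective (ev R t) := by
  have h1 : (ev R t) = (Scheme.Spec.residueFieldIso (CommRingCat.of R) t).inv.hom.comp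
      (algebraMap R t.asIdeal.ResidueField) := by
    have h2 := Scheme.Spec.algebraMap_residueFieldIso_inv (CommRingCat.of R) t
    exact (congrArg CommRingCat.Hom.hom h2).symm
  rw [h1]
  have h3 : Function.Bijective (Scheme.Spec.residueFieldIso (CommRingCat.of R) t).inv :=
    ConcreteCategory.bijective_of_isIso (Scheme.Spec.residueFieldIso (CommRingCat.of R) t).inv
  exact h3.2.comp (Ideal.algebraMap_residueField_surjective t.asIdeal)

theorem isZD_B : IsZD (Spec (CommRingCat.of (FlatHull.B A))) where
  affine := inferInstance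
  isField := isField_stalk_B A
  sepClosed t := by
    have hs := ev_surjective t (FlatHull.isMaximal A t.asIdeal)
    have := FlatHull.isAlgClosed A (ev _ t) (fun e => by
      obtain ⟨x, hx⟩ := hs e
      exact ⟨x, 1, by rw [map_one]; exact one_ne_zero, by rw [map_one, mul_one, hx]⟩)
    infer_instance

theorem algRes_cov : AlgRes (cov A) := by
  intro t
  have hs := ev_surjective t (FlatHull.isMaximal A t.asIdeal)
  let _ := ((cov A).residueFieldMap t).hom.toAlgebra
  exact FlatHull.isAlgebraic A (ev _ t) (ev A (cov A t)) (ev_comp _ t) (fun e => by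
      obtain ⟨x, hx⟩ := hs e
      exact ⟨x, 1, by rw [map_one]; exact one_ne_zero, by rw [map_one, mul_one, hx]⟩)

instance surjective_cov : Surjective (cov A) := ⟨FlatHull.comap_surjective A⟩

end cover

/-- Every affine scheme has a zero-dimensional cover with algebraic residue extensions. -/
theorem exists_cover (Y : Scheme.{u}) [IsAffine Y] : ∃ (P : Scheme.{u}) (r : P ⟶ Y), IsZD P ∧
    AlgRes r ∧ Surjective r ∧ IsAffineHom r := by
  refine ⟨_, cov Γ(Y, ⊤) ≫ Y.isoSpec.inv, isZD_B _, ?_, inferInstance, inferInstance⟩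
  exact (algRes_cov _).comp (algRes_of_weaklyEtale _)

end Groth.Agent.Etbc.H188.ZDBase
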