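import Groth.Agent.Etbc.H188.PointLemma
import Groth.Agent.Etrest.HConstIso

/-!
# Geometric fibres over algebraic geometric points

* `AlgPt τ`: `τ : Spec K ⟶ Y` is algebraic over its image point;
* `isAcyclicSchemeN_fibre`: the fibres of a morphism with acyclic geometric fibres over algebraic
  geometric points are acyclic;
* `geomFibres_of_isPullback`: acyclicity of the geometric fibres is stable under base change along
  morphisms with algebraic residue field extensions.
-/

set_option autoImplicit false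
universe u

open CategoryTheory CategoryTheory.Limits AlgebraicGeometry Opposite IsLocalRing

namespace Groth.Agent.Etbc.H188.GeoPt

open EtCoh Groth.Agent.Etrest.StrictLoc Groth.Agent.Etbc.H188.ZDBase

theorem isAcyclicSchemeN_of_iso {L : Set ℕ} {n : ℕ} {X Y : Scheme.{u}} (e : X ≅ Y)
    (h : EtAcyc.IsAcyclicSchemeN L n X) : EtAcyc.IsAcyclicSchemeN L n Y := by
  obtain ⟨h1, h2, h3⟩ := h
  refine ⟨⟨e.hom h1.some⟩, (Scheme.homeoOfIso e).surjective.connectedSpace
    (Scheme.homeoOfIso e).continuous, fun ℓ hℓ hL q hq hq' => ?_⟩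
  obtain ⟨e1⟩ := Groth.Agent.Etrest.HConstIso.nonempty_HConst e (ZMod ℓ) q
  have := h3 ℓ hℓ hL q hq hq'
  exact e1.toEquiv.subsingleton

/-- Geometric points which are algebraic over their image. -/
def AlgPt {Y : Scheme.{u}} {K : Type u} [Field K] (τ : Spec (CommRingCat.of K) ⟶ Y) : Prop :=
  ∃ (y : Y) (j : Y.residueField y →+* K),
    Spec.map (CommRingCat.ofHom j) ≫ Y.fromSpecResidueField y = τ ∧ AlgF j

theorem AlgPt.comp {X Y : Scheme.{u}} {K : Type u} [Field K] {τ : Spec (CommRingCat.of K) ⟶ X}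
    (hτ : AlgPt τ) {b : X ⟶ Y} (hb : AlgRes b) : AlgPt (τ ≫ b) := by
  obtain ⟨x, j, rfl, hj⟩ := hτ
  refine ⟨b x, j.comp (b.residueFieldMap x).hom, ?_, (hb x).comp hj⟩
  rw [Category.assoc, ← Scheme.Hom.SpecMap_residueFieldMap_fromSpecResidueField,
    ← Category.assoc]
  exact congrArg (· ≫ Y.fromSpecResidueField (b x)) (Spec.map_comp _ _)

theorem algPt_of_isStrictLoc {Y : Scheme.{u}} {K : Type u} [Field K]
    {τ : Spec (CommRingCat.of K) ⟶ Y} (hτ : IsStrictLoc τ) : AlgPt τ := by
  obtain ⟨x, i, hi, hs⟩ := hτ.sep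
  have hb : Function.Bijective (residue K) := bijective_residue (Field.toIsField _)
  let e : K ≃+* ResidueField K := RingEquiv.ofBijective (residue K) hb
  refine ⟨x, e.symm.toRingHom.comp i, ?_, ?_⟩
  · have h1 : resPt K ≫ τ = resPt K ≫ Spec.map (CommRingCat.ofHom (e.symm.toRingHom.comp i)) ≫
        Y.fromSpecResidueField x := by
      rw [← hi, ← Category.assoc]
      refine congrArg (· ≫ Y.fromSpecResidueField x) ?_
      have h2 : Spec.map (CommRingCat.ofHom ((residue K).comp (e.symm.toRingHom.comp i))) =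
          resPt K ≫ Spec.map (CommRingCat.ofHom (e.symm.toRingHom.comp i)) := by
        rw [← Spec.map_comp]
        rfl
      rw [← h2]
      have h3 : (residue K).comp (e.symm.toRingHom.comp i) = i := by
        ext z
        exact e.apply_symm_apply (i z)
      rw [h3]
    have h4 : IsIso (resPt K) := Sga1.UlaSL.isIso_spm (residue K) hb
    exact ((cancel_epi (resPt K)).1 h1).symm
  · exact (algF_of_sepAlg hs).comp (AlgF.of_bijective e.symm.surjective)

theorem isAcyclicSchemeN_fibre {L : Set ℕ} {n : ℕ} {X Y : Scheme.{u}} {g : X ⟶ Y}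
    (hg : EtAcyc.GeomFibresAcyclicN L n g) {K : Type u} [Field K] [IsSepClosed K]
    {τ : Spec (CommRingCat.of K) ⟶ Y} (hτ : AlgPt τ) {W : Scheme.{u}} {a : W ⟶ X}
    {b : W ⟶ Spec (CommRingCat.of K)} (hW : IsPullback a b g τ) :
    EtAcyc.IsAcyclicSchemeN L n W := by
  obtain ⟨y, j, rfl, hj⟩ := hτ
  let _ : Algebra (Y.residueField y) K := j.toAlgebra
  have : Algebra.IsAlgebraic (Y.residueField y) K := hj
  have h1 := hg y K
  have h2 : IsPullback a b g (EtAcyc.geomPt Y y K) := hW
  exact isAcyclicSchemeN_of_iso h2.isoPullback.symm h1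

theorem algPt_geomPt (Y : Scheme.{u}) (y : Y) (Ω : Type u) [Field Ω]
    [a : Algebra (Y.residueField y) Ω] [Algebra.IsAlgebraic (Y.residueField y) Ω] :
    AlgPt (EtAcyc.geomPt Y y Ω) :=
  ⟨y, algebraMap (Y.residueField y) Ω, rfl, (algF_algebraMap _ _).2 inferInstance⟩

/-- The geometric fibres of a morphism are acyclic iff the fibres over all algebraic geometric points
are. -/
theorem geomFibres_of_isPullback {L : Set ℕ} {n : ℕ} {X Y X' Y' : Scheme.{u}} {g : X ⟶ Y}
    {g' : X' ⟶ Y'} {b' : X' ⟶ X} {b : Y' ⟶ Y} (h : IsPullback b' g' g b) (hb : AlgRes b)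
    (hg : EtAcyc.GeomFibresAcyclicN L n g) : EtAcyc.GeomFibresAcyclicN L n g' := by
  intro y Ω _ _ _ _
  have h1 := IsPullback.of_hasPullback g' (EtAcyc.geomPt Y' y Ω)
  exact isAcyclicSchemeN_fibre hg ((algPt_geomPt Y' y Ω).comp hb) (h1.paste_horiz h)

end Groth.Agent.Etbc.H188.GeoPt
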