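import Groth.Agent.Etbc.H188.FibreLemma
import Groth.Agent.Etbc.H188.GeoPt
import Groth.Agent.Etbc.H195.LocAcycOfBC
import Groth.Agent.Etbc.H198.WeBC
import Groth.Agent.Sga4h.StalkAcyc

/-!
# Base change for a zero-dimensional affine cover

`r : P ⟶ Y` affine, `P` zero-dimensional, with algebraic residue field extensions; `g : X ⟶ Y` such
that the geometric fibres of the morphisms of strict localizations of `g` are `m`-acyclic.  For every
`L`-torsion sheaf `E` on `P`:

* `isIso_baseChange0`: `g^* r_* E ⟶ r'_* g_P^* E` is an isomorphism;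
* `isZero_Rpush`: `R^q r'_* g_P^* E = 0` for `1 ≤ q ≤ m`.
-/

set_option autoImplicit false
universe u

open CategoryTheory CategoryTheory.Limits AlgebraicGeometry Opposite IsLocalRing

namespace Groth.Agent.Etbc.H188.BaseChangeR

open EtCoh Groth.Agent.EtpbcB Groth.Agent.EtpbcB.BCIso Groth.Agent.EtpbcB.BCCalc
  Groth.Agent.Etrest.StrictLoc Groth.Agent.Sga1.UlaRes Groth.Agent.Sga1.UlaSL
  Groth.Agent.Etbc.H188.ZDBase Groth.Agent.Etbc.H188.GeoPt

theorem bijAt_congr {P Y C Z : Scheme.{u}} {r : P ⟶ Y} {r₂ : Z ⟶ C} {k k' : C ⟶ Y} (ek : k = k')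
    {j j' : Z ⟶ P} (ej : j = j') (w : j ≫ r = r₂ ≫ k) (w' : j' ≫ r = r₂ ≫ k') (E : Ab P)
    (U : C.Etale) (h : BijAt (baseChange0 r k r₂ j w E) U) :
    BijAt (baseChange0 r k' r₂ j' w' E) U := by
  subst ek ej
  exact h

section local_

variable {X Y P XP : Scheme.{u}} {g : X ⟶ Y} {r : P ⟶ Y} {r' : XP ⟶ X} {gP : XP ⟶ P}
  (h : IsPullback gP r' r g) [IsAffineHom r] (hP : IsZD P) (hr : AlgRes r) {L : Set ℕ} {m : ℕ}
  {A C : Type u} [CommRing A] [IsLocalRing A] [CommRing C] [IsLocalRing C]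
  {σ : Spec (CommRingCat.of A) ⟶ Y} (hσ : IsStrictLoc σ)
  {τ : Spec (CommRingCat.of C) ⟶ X} (hτ : IsStrictLoc τ)
  {β : A →+* C} [IsLocalHom β] (hβ : spm β ≫ σ = τ ≫ g)
  (hf : EtAcyc.GeomFibresAcyclicN L m (spm β))

/-- The morphism `XP ×_X Spec C ⟶ P ×_Y Spec A`. -/
noncomputable def pp : pullback r' τ ⟶ pullback r σ :=
  pullback.lift (pullback.fst r' τ ≫ gP) (pullback.snd r' τ ≫ spm β) (by
    rw [Category.assoc, h.w, Category.assoc, hβ, ← Category.assoc, pullback.condition,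
      Category.assoc])

@[reassoc]
theorem pp_fst : pp h hβ ≫ pullback.fst r σ = pullback.fst r' τ ≫ gP :=
  pullback.lift_fst _ _ _

@[reassoc]
theorem pp_snd : pp h hβ ≫ pullback.snd r σ = pullback.snd r' τ ≫ spm β :=
  pullback.lift_snd _ _ _

theorem isPullback_pp : IsPullback (pp h hβ) (pullback.snd r' τ) (pullback.snd r σ) (spm β) := by
  have h1 := (IsPullback.of_hasPullback r' τ).paste_horiz h
  refine IsPullback.of_right ?_ (pp_snd h hβ) (IsPullback.of_hasPullback r σ)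
  rw [pp_fst, hβ]
  exact h1

include hP hσ in
theorem isZD₁ : IsZD (pullback r σ) := by
  have h1 := weaklyEtale_of_isStrictLoc hσ
  have h2 : WeaklyEtale (pullback.fst r σ) := inferInstance
  have h3 : IsAffine (pullback r σ) := isAffine_of_isAffineHom (pullback.snd r σ)
  exact hP.of_weaklyEtale (pullback.fst r σ)

include hr hσ in
theorem algRes₁ : AlgRes (pullback.snd r σ) := by
  have h1 := weaklyEtale_of_isStrictLoc hσ
  have h2 : AlgRes (pullback.fst r σ ≫ r) := (algRes_of_weaklyEtale _).comp hr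
  exact (h2.of_eq pullback.condition).of_comp

include hr hσ hf in
theorem isAcyclicSchemeN_pp {K : Type u} [Field K] [IsSepClosed K]
    (κ : Spec (CommRingCat.of K) ⟶ pullback r σ) (hκ : IsStrictLoc κ) :
    EtAcyc.IsAcyclicSchemeN L m (pullback (pp h hβ) κ) :=
  isAcyclicSchemeN_fibre hf ((algPt_of_isStrictLoc hκ).comp (algRes₁ hr hσ))
    ((IsPullback.of_hasPullback (pp h hβ) κ).paste_horiz (isPullback_pp h hβ).flip)

theorem isAffineHom_pp : IsAffineHom (pp h hβ) :=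
  MorphismProperty.of_isPullback (isPullback_pp h hβ).flip inferInstance

include hr hσ hf in
theorem bijective_Hpull_fibre {K : Type u} [Field K] [IsSepClosed K]
    (κ : Spec (CommRingCat.of K) ⟶ pullback r σ) (hκ : IsStrictLoc κ) (G : Ab (pullback r σ))
    (hG : EtAcyc.IsLTorsion L G) (q : ℕ) (hq : q ≤ m) :
    Function.Bijective (EtCore.Hpull (pullback.snd (pp h hβ) κ) ((pull κ).obj G) q) := by
  have h1 := isAffineHom_pp h hβ
  have h2 : IsAffine (pullback (pp h hβ) κ) := isAffine_of_isAffineHom (pullback.snd (pp h hβ) κ)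
  exact PointLemma.bijective_Hpull _ (isAcyclicSchemeN_pp h hr hσ hβ hf κ hκ) _
    (H231.AcycComp.isLTorsion_pull L κ G hG) q hq

include hr hσ hf hP in
theorem fibre_pp (G : Ab (pullback r σ)) (hG : EtAcyc.IsLTorsion L G) :
    IsIso ((pullPushAdj (pp h hβ)).unit.app G) ∧
      ∀ q : ℕ, q ≤ m → Function.Bijective (EtCore.Hpull (pp h hβ) G q) := by
  have h1 := isAffineHom_pp h hβ
  have h2 := isZD₁ hP hσ (r := r)
  exact ⟨(FibreLemma.fibre_lemma h2 (pp h hβ) G m fun K _ _ κ hκ q hq =>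
      bijective_Hpull_fibre h hr hσ hβ hf κ hκ G hG q hq).1,
    (FibreLemma.Hpull_bijective h2 (pp h hβ) G m fun K _ _ κ hκ q hq =>
      bijective_Hpull_fibre h hr hσ hβ hf κ hκ G hG q hq).1⟩

variable [QuasiCompact g] [QuasiSeparated g]
  {E : Ab P} (hE : EtAcyc.IsLTorsion L E)

include h hβ hr hσ hf hP hτ hE in
theorem bijAt_pull_baseChange0 :
    BijAt ((pull τ).map (baseChange0 r g r' gP h.w E)) (top _) := by
  have := hσ.henselian
  have := hσ.sepClosed
  have := hτ.henselian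
  have := hτ.sepClosed
  have hr' : IsAffineHom r' := MorphismProperty.of_isPullback h inferInstance
  have hpp := isPullback_pp h hβ
  have h1 := IsPullback.of_hasPullback r' τ
  have h2 := IsPullback.of_hasPullback r σ
  let G : Ab (pullback r σ) := (pull (pullback.fst r σ)).obj E
  have hG : EtAcyc.IsLTorsion L G := H231.AcycComp.isLTorsion_pull L _ E hE
  obtain ⟨hu, -⟩ := fibre_pp h hP hr hσ hβ hf G hG
  -- base change along `spm β ≫ σ`
  have b1 : BijAt (baseChange0 (pullback.snd r σ) (spm β) (pullback.snd r' τ) (pp h hβ) hpp.w G)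
      (top _) :=
    baseChange0_bijAt_top hpp.w G (H195.LocAcycOfBC.UB_spm β _) (bijAt_of_isIso _ _)
  have i1 : IsIso (baseChange0 r σ (pullback.snd r σ) (pullback.fst r σ) h2.w E) :=
    Ega2.LACBc.isIso_baseChange0_of_isStrictLoc hσ h2 E
  have w2 : (pp h hβ ≫ pullback.fst r σ) ≫ r = pullback.snd r' τ ≫ spm β ≫ σ :=
    (hpp.paste_horiz h2).w
  have e2 := baseChange0_hpaste h2.w hpp.w w2 E
  have b2 : BijAt (baseChange0 r (spm β ≫ σ) (pullback.snd r' τ) (pp h hβ ≫ pullback.fst r σ) w2 E)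
      (top _) := by
    refine bijAt_of_comp_left ((EtpbcB.BCCalc.pullComp σ (spm β)).hom.app ((push r).obj E)) _ _
      (bijAt_of_isIso _ _) ?_
    rw [e2]
    exact bijAt_comp _ _ _ (bijAt_of_isIso _ _) (bijAt_comp _ _ _ b1 (bijAt_of_isIso _ _))
  have w1 : (pullback.fst r' τ ≫ gP) ≫ r = pullback.snd r' τ ≫ τ ≫ g := (h1.paste_horiz h).w
  have b3 := bijAt_congr hβ (pp_fst h hβ) w2 w1 E (top _) b2
  have i3 : IsIso (baseChange0 r' τ (pullback.snd r' τ) (pullback.fst r' τ) h1.w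
      ((pull gP).obj E)) := Ega2.LACBc.isIso_baseChange0_of_isStrictLoc hτ h1 _
  have e1 := baseChange0_hpaste h.w h1.w w1 E
  have b4 : BijAt ((EtpbcB.BCCalc.pullComp g τ).hom.app ((push r).obj E) ≫
      baseChange0 r (τ ≫ g) (pullback.snd r' τ) (pullback.fst r' τ ≫ gP) w1 E) (top _) :=
    bijAt_comp _ _ _ (bijAt_of_isIso _ _) b3
  rw [e1, bijAt_iff_isIso] at b4
  have b5 : BijAt (baseChange0 r' τ (pullback.snd r' τ) (pullback.fst r' τ) h1.w
      ((pull gP).obj E) ≫ (push (pullback.snd r' τ)).map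
        ((EtpbcB.BCCalc.pullComp gP (pullback.fst r' τ)).hom.app E)) (top _) :=
    bijAt_of_isIso _ _
  rw [bijAt_iff_isIso] at b5 ⊢
  exact @IsIso.of_isIso_comp_right _ _ _ _ _ _ _ b5 b4

include h hβ hr hσ hf hP hτ hE in
theorem isIso_stalk_baseChange0 [IsSepClosed (ResidueField C)] :
    IsIso ((stalk (resPt C ≫ τ)).map (baseChange0 r g r' gP h.w E)) := by
  have := hτ.henselian
  have b := bijAt_pull_baseChange0 h hP hr hσ hτ hβ hf hE
  rw [NatIso.isIso_map_iff (Etbase.StalkPull.stalkPullIso τ (resPt C))]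
  have h1 := (EtpbcA.LA.bijAt_top_iff_stalk (resPt C) (resPt_closedPoint C _) _).1 b
  exact (ConcreteCategory.isIso_iff_bijective _).2 h1

include h hβ hr hσ hf hP hτ hE in
theorem isZero_stalk_Rpush [IsSepClosed (ResidueField C)] (q : ℕ) (hq : 1 ≤ q) (hqm : q ≤ m) :
    IsZero ((stalk (resPt C ≫ τ)).obj ((Rpush r' q).obj ((pull gP).obj E))) := by
  have hr' : IsAffineHom r' := MorphismProperty.of_isPullback h inferInstance
  have hpp := isPullback_pp h hβ
  let G : Ab (pullback r σ) := (pull (pullback.fst r σ)).obj E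
  have hG : EtAcyc.IsLTorsion L G := H231.AcycComp.isLTorsion_pull L _ E hE
  obtain ⟨-, hb⟩ := fibre_pp h hP hr hσ hβ hf G hG
  obtain ⟨e⟩ := Sga4h.StalkAcyc.nonempty_stalk_iso r' ((pull gP).obj E) hτ q
  have h1 : Subsingleton (H (pullback r σ) G q) := (isZD₁ hP hσ (r := r)).subsingleton_H G q hq
  have h2 : Subsingleton (H (pullback r' τ) ((pull (pp h hβ)).obj G) q) :=
    (hb q hqm).2.subsingleton
  let k : (pull (pp h hβ)).obj G ≅ (pull (pullback.fst r' τ)).obj ((pull gP).obj E) :=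
    ((EtpbcB.BCCalc.pullComp (pullback.fst r σ) (pp h hβ) ≪≫
      EtpbcB.BCCalc.pullCongr (pp_fst h hβ) ≪≫
        (EtpbcB.BCCalc.pullComp gP (pullback.fst r' τ)).symm).app E)
  have h3 : IsZero ((HF (pullback r' τ) q).obj ((pull (pp h hβ)).obj G)) :=
    @AddCommGrpCat.isZero_of_subsingleton _ h2
  exact (h3.of_iso ((HF (pullback r' τ) q).mapIso k).symm).of_iso e

end local_

section global

variable {X Y P XP : Scheme.{u}} {g : X ⟶ Y} {r : P ⟶ Y} {r' : XP ⟶ X} {gP : XP ⟶ P}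
  (h : IsPullback gP r' r g) [IsAffineHom r] (hP : IsZD P) (hr : AlgRes r) {L : Set ℕ} {m : ℕ}
  [QuasiCompact g] [QuasiSeparated g]
  (hloc : EtAcyc.OnStrictLocalizations g (fun _ _ k => EtAcyc.GeomFibresAcyclicN L m k))
  {E : Ab P} (hE : EtAcyc.IsLTorsion L E)

include hloc in
theorem exists_data (x : X) : ∃ (A C : Type u) (_ : CommRing A) (_ : IsLocalRing A)
    (_ : CommRing C) (_ : IsLocalRing C) (σ : Spec (CommRingCat.of A) ⟶ Y) (_ : IsStrictLoc σ)
    (τ : Spec (CommRingCat.of C) ⟶ X) (_ : IsStrictLoc τ) (β : A →+* C) (_ : IsLocalHom β)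
    (_ : spm β ≫ σ = τ ≫ g) (_ : EtAcyc.GeomFibresAcyclicN L m (spm β)),
      τ (closedPoint C) = x := by
  obtain ⟨C, _, _, τ, hτ, hx⟩ := exists_isStrictLoc X x
  obtain ⟨A, _, _, σ, hσ, hy⟩ := exists_isStrictLoc Y (g x)
  have := hτ.henselian
  have := hτ.sepClosed
  obtain ⟨β, hβ1, hβ2⟩ := Etrest.VCBaseChange.exists_map hσ (τ ≫ g) (by
    rw [Scheme.Hom.comp_apply, hx, hy])
  exact ⟨A, C, _, _, _, _, σ, hσ, τ, hτ, β, hβ1, hβ2,
    (H198.WeBC.onStrictLocalizations_iff g _).1 hloc A C σ τ hσ hτ β hβ1 hβ2, hx⟩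

include h hP hr hloc hE in
theorem isIso_baseChange0 : IsIso (baseChange0 r g r' gP h.w E) := by
  apply Etcore.Stalks.isIso_of_stalks
  intro x
  obtain ⟨A, C, _, _, _, _, σ, hσ, τ, hτ, β, hβ1, hβ2, hf, hx⟩ := exists_data hloc x
  have := hτ.sepClosed
  refine ⟨ResidueField C, inferInstance, inferInstance, resPt C ≫ τ, ?_,
    isIso_stalk_baseChange0 h hP hr hσ hτ hβ2 hf hE⟩
  rw [Scheme.Hom.comp_apply, resPt_closedPoint, hx]

include h hP hr hloc hE in
theorem isZero_Rpush (q : ℕ) (hq : 1 ≤ q) (hqm : q ≤ m) :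
    IsZero ((Rpush r' q).obj ((pull gP).obj E)) := by
  apply Etcore.Stalks.isZero_of_stalks
  intro x
  obtain ⟨A, C, _, _, _, _, σ, hσ, τ, hτ, β, hβ1, hβ2, hf, hx⟩ := exists_data hloc x
  have := hτ.sepClosed
  refine ⟨ResidueField C, inferInstance, inferInstance, resPt C ≫ τ, ?_,
    isZero_stalk_Rpush h hP hr hσ hτ hβ2 hf hE q hq hqm⟩
  rw [Scheme.Hom.comp_apply, resPt_closedPoint, hx]

end global

end Groth.Agent.Etbc.H188.BaseChangeR
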