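import Groth.Agent.Etbc.H188.ZDBase
import Groth.Agent.Etbc.H234.LerayRange
import Groth.Agent.EtpbcA.LATrans

/-!
# Direct images to a zero-dimensional base

* `exists_toBase`: comparison of a strict localization with `Osh`;
* `stalk_unit_iff`, `isZero_stalk_iff`: stalks of the unit and of the higher direct images in terms
  of any strict localization, degree by degree;
* `fibre_lemma`: for `p : Z ⟶ P`, `P` zero-dimensional, if the restriction maps of the fibres of `p`
  are bijective in degrees `≤ m`, then `G ≅ p_* p^* G` and `R^q p_* p^* G = 0` for `1 ≤ q ≤ m`.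
-/

set_option autoImplicit false
universe u

open CategoryTheory CategoryTheory.Limits AlgebraicGeometry Opposite IsLocalRing

namespace Groth.Agent.Etbc.H188.FibreLemma

open EtCoh Groth.Agent.EtpbcB Groth.Agent.EtpbcB.BCIso Groth.Agent.Etrest.StrictLoc
  Groth.Agent.Sga1.UlaRes Groth.Agent.Sga1.UlaSL Groth.Agent.Etbc.H188.ZDBase

section degreewise

variable {X Y : Scheme.{u}} (eps : Y ⟶ X) [QuasiCompact eps] [QuasiSeparated eps] (F : Ab X)
  {Ω : Type u} [Field Ω] [IsSepClosed Ω] (ξ : Spec (CommRingCat.of Ω) ⟶ X)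
  {C : Type u} [CommRing C] [IsLocalRing C] {τ : Spec (CommRingCat.of C) ⟶ X} (hτ : IsStrictLoc τ)
  (hξ : ξ default = τ (closedPoint C))
  {P : Scheme.{u}} {a : P ⟶ Y} {b : P ⟶ Spec (CommRingCat.of C)} (h : IsPullback a b eps τ)

include hτ hξ h in
theorem exists_toBase : ∃ b' : P ⟶ Spec (EtpbcB.StrictLoc.Osh ξ),
    IsPullback a b' eps (EtpbcB.StrictLoc.toBase ξ) ∧
      ∀ q : ℕ, (Function.Bijective (EtCore.Hpull b' ((pull (EtpbcB.StrictLoc.toBase ξ)).obj F) q) ↔
        Function.Bijective (EtCore.Hpull b ((pull τ).obj F) q)) := by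
  have hO : @IsStrictLoc X (EtpbcB.StrictLoc.Osh ξ) _ inferInstance (EtpbcB.StrictLoc.toBase ξ) :=
    EtpbcB.OshHens.isStrictLoc_toBase ξ
  have hpt : EtpbcB.StrictLoc.toBase ξ (closedPoint (EtpbcB.StrictLoc.Osh ξ)) = ξ default := by
    rw [← EtpbcB.StrictLoc.pt_default]
    exact congrArg (fun q => q default) (EtpbcB.StrictLoc.pt_toBase ξ)
  obtain ⟨g, hg1, hg2, hg3⟩ := hO.exists_equiv hτ (hpt.trans hξ)
  have hgi : IsIso (spm g) := isIso_spm g hg2
  have h' : IsPullback a (b ≫ spm g) eps (EtpbcB.StrictLoc.toBase ξ) :=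
    IsPullback.of_iso h (Iso.refl _) (Iso.refl _) (asIso (spm g)) (Iso.refl _)
      (by simp) (by simp) (by simp) (by
        rw [Iso.refl_hom, Category.comp_id, asIso_hom, hg3])
  refine ⟨_, h', fun q => ?_⟩
  have w : (b ≫ spm g) ≫ EtpbcB.StrictLoc.toBase ξ = b ≫ τ := by rw [Category.assoc, hg3]
  refine (res_bijective_iff F (b ≫ spm g) (EtpbcB.StrictLoc.toBase ξ) (b ≫ τ) w q).symm.trans ?_
  refine Iff.trans ?_ (res_bijective_iff F b τ (b ≫ τ) rfl q)
  have e : (res F (b ≫ spm g) (EtpbcB.StrictLoc.toBase ξ) (b ≫ τ) w q : _ → _) =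
      (res F b τ (b ≫ τ) rfl q : _ → _) ∘
        (res F (spm g) (EtpbcB.StrictLoc.toBase ξ) τ hg3 q : _ → _) :=
    funext fun x => (res_comp F b (spm g) _ rfl _ _ _ hg3 rfl w q x).symm
  rw [e]
  exact Function.Bijective.of_comp_iff _ (res_bijective F (spm g) _ _ hg3 q)

include hτ hξ h in
theorem stalk_unit_iff : Function.Bijective ((stalk ξ).map ((pullPushAdj eps).unit.app F)) ↔
    Function.Bijective (EtCore.Hpull b ((pull τ).obj F) 0) := by
  obtain ⟨b', h', e⟩ := exists_toBase eps F ξ hτ hξ h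
  exact (EtpbcA.LA.stalk_unit_iff eps F ξ h').trans (e 0)

include hτ hξ h in
theorem isZero_stalk_iff (q : ℕ) (hq : 0 < q) :
    IsZero ((stalk ξ).obj ((Rpush eps q).obj ((pull eps).obj F))) ↔
      Function.Bijective (EtCore.Hpull b ((pull τ).obj F) q) := by
  obtain ⟨b', h', e⟩ := exists_toBase eps F ξ hτ hξ h
  exact (EtpbcA.LA.isZero_stalk_iff eps F ξ h' q hq).trans (e q)

end degreewise

variable {P Z : Scheme.{u}}

theorem fibre_lemma (hP : IsZD P) (p : Z ⟶ P) [QuasiCompact p] [QuasiSeparated p] (G : Ab P)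
    (m : ℕ) (H : ∀ (K : Type u) [Field K] [IsSepClosed K] (τ : Spec (CommRingCat.of K) ⟶ P),
      IsStrictLoc τ → ∀ q : ℕ, q ≤ m →
        Function.Bijective (EtCore.Hpull (pullback.snd p τ) ((pull τ).obj G) q)) :
    IsIso ((pullPushAdj p).unit.app G) ∧
      ∀ q : ℕ, 1 ≤ q → q ≤ m → IsZero ((Rpush p q).obj ((pull p).obj G)) := by
  have key : ∀ x : P, ∃ (Ω : Type u) (_ : Field Ω) (_ : IsSepClosed Ω)
      (ξ : Spec (CommRingCat.of Ω) ⟶ P) (K : Type u) (_ : Field K) (_ : IsSepClosed K)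
      (τ : Spec (CommRingCat.of K) ⟶ P), ξ default = x ∧ IsStrictLoc τ ∧
        ξ default = τ (closedPoint K) := by
    intro x
    obtain ⟨Ω, _, _, ξ, hξ⟩ := Etcore.Stalks.exists_geom x
    obtain ⟨K, _, _, τ, hτ, hx⟩ := hP.exists_isStrictLoc x
    exact ⟨Ω, inferInstance, inferInstance, ξ, K, inferInstance, inferInstance, τ, hξ, hτ,
      hξ.trans hx.symm⟩
  constructor
  · apply Etcore.Stalks.isIso_of_stalks
    intro x
    obtain ⟨Ω, _, _, ξ, K, _, _, τ, hξ, hτ, he⟩ := key x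
    refine ⟨Ω, inferInstance, inferInstance, ξ, hξ, ?_⟩
    rw [ConcreteCategory.isIso_iff_bijective]
    exact (stalk_unit_iff p G ξ hτ he (IsPullback.of_hasPullback p τ)).2 (H K τ hτ 0 (Nat.zero_le _))
  · intro q h1 h2
    apply Etcore.Stalks.isZero_of_stalks
    intro x
    obtain ⟨Ω, _, _, ξ, K, _, _, τ, hξ, hτ, he⟩ := key x
    refine ⟨Ω, inferInstance, inferInstance, ξ, hξ, ?_⟩
    exact (isZero_stalk_iff p G ξ hτ he (IsPullback.of_hasPullback p τ) q h1).2 (H K τ hτ q h2)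

theorem Hpull_bijective (hP : IsZD P) (p : Z ⟶ P) [QuasiCompact p] [QuasiSeparated p] (G : Ab P)
    (m : ℕ) (H : ∀ (K : Type u) [Field K] [IsSepClosed K] (τ : Spec (CommRingCat.of K) ⟶ P),
      IsStrictLoc τ → ∀ q : ℕ, q ≤ m →
        Function.Bijective (EtCore.Hpull (pullback.snd p τ) ((pull τ).obj G) q)) :
    (∀ q : ℕ, q ≤ m → Function.Bijective (EtCore.Hpull p G q)) ∧
      Function.Injective (EtCore.Hpull p G (m + 1)) := by
  obtain ⟨h1, h2⟩ := fibre_lemma hP p G m H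
  exact H234.LerayRange.Hpull_range_of_isIso_unit p G m h1 h2

end Groth.Agent.Etbc.H188.FibreLemma
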