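import Mathlib.FieldTheory.IsAlgClosed.AlgebraicClosure
import Mathlib.RingTheory.LocalRing.ResidueField.Ideal
import Mathlib.RingTheory.KrullDimension.Zero
import Mathlib.RingTheory.IntegralClosure.IntegrallyClosed
import Mathlib.RingTheory.Spectrum.Prime.Topology

/-!
# A zero-dimensional reduced cover with algebraically closed residue fields

For a commutative ring `A` we construct an `A`-algebra `B` such that
* `B` is reduced and every prime ideal of `B` is maximal,
* all residue fields of `B` are algebraically closed, and algebraic over the residue fields of `A`,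
* `Spec B → Spec A` is surjective.

`B` is the ring of all elements of `T = ∏_p κ(p)^alg` which are integral over the subring `R₀`
generated by `A` and the pointwise (pseudo-)inverses of the elements of `A`.
-/

set_option autoImplicit false
universe u

namespace Groth.Agent.Etbc.H188.FlatHull

open Polynomial

noncomputable section

section Abstract

/-- `R` is generated over `A` by pseudo-inverses of the elements of `A`. -/
structure InvData (A R : Type u) [CommRing A] [CommRing R] [Algebra A R] (inv : A → R) : Prop where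
  mul_mul_inv : ∀ a, algebraMap A R a * algebraMap A R a * inv a = algebraMap A R a
  inv_mul_inv_mul : ∀ a, inv a * inv a * algebraMap A R a = inv a
  gen : Algebra.adjoin A (Set.range inv) = ⊤

variable {A R : Type u} [CommRing A] [CommRing R] [Algebra A R] {inv : A → R} (h : InvData A R inv)
  {D : Type u} [CommRing D] (φ : R →+* D)

include h

theorem InvData.map_mul_inv [IsDomain D] {a : A} (ha : φ (algebraMap A R a) ≠ 0) :
    φ (algebraMap A R a) * φ (inv a) = 1 := by
  have h1 := congrArg φ (h.mul_mul_inv a)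
  rw [map_mul, map_mul, mul_assoc] at h1
  exact mul_left_cancel₀ ha (h1.trans (mul_one _).symm)

theorem InvData.map_inv_eq_zero {a : A} (ha : φ (algebraMap A R a) = 0) : φ (inv a) = 0 := by
  have h1 := congrArg φ (h.inv_mul_inv_mul a)
  rw [map_mul, ha, mul_zero] at h1
  exact h1.symm

/-- Every element of a domain quotient of `R` is a fraction of elements of `A`. -/
theorem InvData.exists_fraction [IsDomain D] (x : R) :
    ∃ a s : A, φ (algebraMap A R s) ≠ 0 ∧
      φ x * φ (algebraMap A R s) = φ (algebraMap A R a) := by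
  have hx : x ∈ Algebra.adjoin A (Set.range inv) := by rw [h.gen]; trivial
  induction hx using Algebra.adjoin_induction with
  | mem x hx =>
    obtain ⟨a, rfl⟩ := hx
    by_cases ha : φ (algebraMap A R a) = 0
    · refine ⟨0, 1, ?_, ?_⟩
      · rw [map_one, map_one]; exact one_ne_zero
      · rw [map_zero, map_zero, h.map_inv_eq_zero φ ha, zero_mul]
    · refine ⟨1, a, ha, ?_⟩
      rw [map_one, map_one, mul_comm]
      exact h.map_mul_inv φ ha
  | algebraMap r =>
    refine ⟨r, 1, ?_, ?_⟩
    · rw [map_one, map_one]; exact one_ne_zero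
    · rw [map_one, map_one, mul_one]
  | add x y _ _ h1 h2 =>
    obtain ⟨a, s, hs, h1⟩ := h1
    obtain ⟨b, t, ht, h2⟩ := h2
    refine ⟨a * t + b * s, s * t, ?_, ?_⟩
    · rw [map_mul, map_mul]; exact mul_ne_zero hs ht
    · simp only [map_add, map_mul]
      rw [← h1, ← h2]
      ring
  | mul x y _ _ h1 h2 =>
    obtain ⟨a, s, hs, h1⟩ := h1
    obtain ⟨b, t, ht, h2⟩ := h2
    refine ⟨a * b, s * t, ?_, ?_⟩
    · rw [map_mul, map_mul]; exact mul_ne_zero hs ht
    · simp only [map_mul]
      rw [← h1, ← h2]
      ring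

omit φ [CommRing D] in
/-- Every prime ideal of `R` is maximal. -/
theorem InvData.isMaximal (P : Ideal R) [hP : P.IsPrime] : P.IsMaximal := by
  rw [Ideal.Quotient.maximal_ideal_iff_isField_quotient]
  have := Ideal.Quotient.isDomain P
  refine ⟨⟨0, 1, zero_ne_one⟩, fun x y => mul_comm x y, fun {y} hy => ?_⟩
  obtain ⟨x, rfl⟩ := Ideal.Quotient.mk_surjective y
  obtain ⟨a, s, hs, h'⟩ := h.exists_fraction (Ideal.Quotient.mk P) x
  have ha : Ideal.Quotient.mk P (algebraMap A R a) ≠ 0 := by
    rw [← h']; exact mul_ne_zero hy hs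
  refine ⟨Ideal.Quotient.mk P (algebraMap A R s) * Ideal.Quotient.mk P (inv a), ?_⟩
  rw [← mul_assoc, h']
  exact h.map_mul_inv _ ha

end Abstract

section IntClosed

variable {R S : Type u} [CommRing R] [CommRing S] [Algebra R S] [Algebra.IsIntegral R S]

theorem isMaximal_of_integral (h : ∀ (P : Ideal R) [P.IsPrime], P.IsMaximal) (Q : Ideal S)
    [Q.IsPrime] : Q.IsMaximal := 
  Ideal.isMaximal_of_isIntegral_of_isMaximal_comap Q (h _)

end IntClosed

section Prod

variable {ι : Type u} (K : ι → Type u) [∀ i, Field (K i)]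
  (R : Type u) [CommRing R] [Algebra R (∀ i, K i)]

/-- The elements of a product of algebraically closed fields integral over `R`. -/
def IC : Type u := integralClosure R (∀ i, K i)

instance : CommRing (IC K R) := inferInstanceAs (CommRing (integralClosure R (∀ i, K i)))
instance : Algebra R (IC K R) := inferInstanceAs (Algebra R (integralClosure R (∀ i, K i)))
instance : Algebra.IsIntegral R (IC K R) :=
  inferInstanceAs (Algebra.IsIntegral R (integralClosure R (∀ i, K i)))

/-- the inclusion. -/
def incl : IC K R →+* ∀ i, K i := (integralClosure R (∀ i, K i)).val.toRingHom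

theorem incl_injective : Function.Injective (incl K R) := Subtype.val_injective

theorem incl_algebraMap (r : R) : incl K R (algebraMap R (IC K R) r) = algebraMap R (∀ i, K i) r :=
  rfl

theorem exists_incl_eq (t : ∀ i, K i) (ht : IsIntegral R t) : ∃ b : IC K R, incl K R b = t :=
  ⟨⟨t, ht⟩, rfl⟩

instance : IsReduced (IC K R) := isReduced_of_injective (incl K R) (incl_injective K R)

variable [∀ i, IsAlgClosed (K i)]

/-- Every monic polynomial of positive degree over `IC K R` has a root. -/
theorem exists_root (f : (IC K R)[X]) (hf : f.Monic) (hd : f.degree ≠ 0) :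
    ∃ t : IC K R, f.eval t = 0 := by
  have h1 : ∀ i, ∃ t : K i,
      (f.map ((Pi.evalRingHom K i).comp (incl K R))).eval t = 0 := by
    intro p
    refine IsAlgClosed.exists_root _ ?_
    rw [hf.degree_map]
    exact hd
  choose t ht using h1
  have h2 : f.eval₂ (incl K R) t = 0 := by
    funext p
    have h3 := Polynomial.hom_eval₂ f (incl K R) (Pi.evalRingHom K p) t
    refine h3.trans ?_
    have h4 := ht p
    rw [Polynomial.eval_map] at h4
    exact h4
  let _ : Algebra (IC K R) (∀ i, K i) := (incl K R).toAlgebra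
  have : IsScalarTower R (IC K R) (∀ i, K i) := IsScalarTower.of_algebraMap_eq fun r => rfl
  have h3 : IsIntegral (IC K R) t := ⟨f, hf, h2⟩
  have h4 : IsIntegral R t := isIntegral_trans t h3
  obtain ⟨b, rfl⟩ := exists_incl_eq K R t h4
  refine ⟨b, incl_injective K R ?_⟩
  rw [map_zero, ← h2, Polynomial.eval, Polynomial.hom_eval₂, RingHom.comp_id]

end Prod

section Hull

variable (A : Type u) [CommRing A]

/-- An algebraic closure of the residue field at `p`. -/
abbrev K (p : PrimeSpectrum A) : Type u := AlgebraicClosure p.asIdeal.ResidueField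

/-- The big product of fields. -/
abbrev T : Type u := ∀ p : PrimeSpectrum A, K A p

/-- The subalgebra generated by the pointwise inverses. -/
def sub₀ : Subalgebra A (T A) :=
  Algebra.adjoin A (Set.range fun a : A => ((algebraMap A (T A) a)⁻¹ : T A))

/-- The subalgebra generated by the pointwise inverses, as a type. -/
def R₀ : Type u := sub₀ A

instance : CommRing (R₀ A) := inferInstanceAs (CommRing (sub₀ A))
instance : Algebra A (R₀ A) := inferInstanceAs (Algebra A (sub₀ A))
instance : Algebra (R₀ A) (T A) := inferInstanceAs (Algebra (sub₀ A) (T A))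
instance : IsScalarTower A (R₀ A) (T A) := inferInstanceAs (IsScalarTower A (sub₀ A) (T A))

theorem algebraMap_R₀_injective : Function.Injective (algebraMap (R₀ A) (T A)) :=
  Subtype.val_injective

/-- The pointwise inverse of the image of `a`. -/
def inv₀ (a : A) : R₀ A :=
  (⟨(algebraMap A (T A) a)⁻¹, Algebra.subset_adjoin ⟨a, rfl⟩⟩ : sub₀ A)

theorem algebraMap_inv₀ (a : A) : algebraMap (R₀ A) (T A) (inv₀ A a) = (algebraMap A (T A) a)⁻¹ :=
  rfl

theorem invData : InvData A (R₀ A) (inv₀ A) where
  mul_mul_inv a := by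
    apply algebraMap_R₀_injective A
    rw [map_mul, map_mul, algebraMap_inv₀, ← IsScalarTower.algebraMap_apply]
    funext p
    change algebraMap A (T A) a p * algebraMap A (T A) a p * (algebraMap A (T A) a p)⁻¹ =
      algebraMap A (T A) a p
    by_cases h : algebraMap A (T A) a p = 0
    · rw [h]; simp
    · rw [mul_assoc, mul_inv_cancel₀ h, mul_one]
  inv_mul_inv_mul a := by
    apply algebraMap_R₀_injective A
    rw [map_mul, map_mul, algebraMap_inv₀, ← IsScalarTower.algebraMap_apply]
    funext p
    change (algebraMap A (T A) a p)⁻¹ * (algebraMap A (T A) a p)⁻¹ * algebraMap A (T A) a p =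
      (algebraMap A (T A) a p)⁻¹
    by_cases h : algebraMap A (T A) a p = 0
    · rw [h]; simp
    · rw [mul_assoc, inv_mul_cancel₀ h, mul_one]
  gen := by
    rw [eq_top_iff]
    have h := Algebra.adjoin_adjoin_coe_preimage (R := A)
      (s := (Set.range fun a : A => ((algebraMap A (T A) a)⁻¹ : T A)))
    refine le_trans h.ge (Algebra.adjoin_mono ?_)
    rintro x ⟨a, ha⟩
    exact ⟨a, Subtype.ext ha⟩

/-- The ring `B`. -/
abbrev B : Type u := IC (K A) (R₀ A)

instance : Algebra A (B A) := ((algebraMap (R₀ A) (B A)).comp (algebraMap A (R₀ A))).toAlgebra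
instance : IsScalarTower A (R₀ A) (B A) := IsScalarTower.of_algebraMap_eq fun _ => rfl

theorem isMaximal (Q : Ideal (B A)) [Q.IsPrime] : Q.IsMaximal :=
  isMaximal_of_integral (R := R₀ A) (fun P _ => (invData A).isMaximal P) Q

theorem incl_algebraMap_apply (a : A) (p : PrimeSpectrum A) :
    incl (K A) (R₀ A) (algebraMap A (B A) a) p = algebraMap A (K A p) a := by
  have h1 : algebraMap A (B A) a = algebraMap (R₀ A) (B A) (algebraMap A (R₀ A) a) := rfl
  rw [h1, incl_algebraMap, ← IsScalarTower.algebraMap_apply]
  rfl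

/-- `Spec B → Spec A` is surjective. -/
theorem comap_surjective : Function.Surjective (PrimeSpectrum.comap (algebraMap A (B A))) := by
  intro p
  let e : B A →+* K A p := (Pi.evalRingHom (K A) p).comp (incl (K A) (R₀ A))
  refine ⟨PrimeSpectrum.comap e ⊥, ?_⟩
  apply PrimeSpectrum.ext
  ext a
  rw [PrimeSpectrum.comap_asIdeal, PrimeSpectrum.comap_asIdeal, Ideal.mem_comap, Ideal.mem_comap]
  have h1 : e (algebraMap A (B A) a) = algebraMap A (K A p) a := incl_algebraMap_apply A a p
  rw [h1, IsScalarTower.algebraMap_apply A p.asIdeal.ResidueField (K A p)]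
  change algebraMap _ _ _ = 0 ↔ _
  rw [FaithfulSMul.algebraMap_eq_zero_iff, Ideal.algebraMap_residueField_eq_zero]

/-- Field-valued points of `B` are algebraic over the field-valued points of `A` below. -/
theorem isAlgebraic {k E : Type u} [Field k] [Field E] [Algebra k E] (φ : B A →+* E) (ψ : A →+* k)
    (hc : (algebraMap k E).comp ψ = φ.comp (algebraMap A (B A)))
    (hφ : ∀ e : E, ∃ x y : B A, φ y ≠ 0 ∧ e * φ y = φ x) : Algebra.IsAlgebraic k E := by
  have hc' : ∀ a : A, φ (algebraMap (R₀ A) (B A) (algebraMap A (R₀ A) a)) = algebraMap k E (ψ a) :=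
    fun a => (congrArg (fun r : A →+* E => r a) hc).symm
  have h1 : ∀ x : R₀ A, φ (algebraMap (R₀ A) (B A) x) ∈ Set.range (algebraMap k E) := by
    intro x
    obtain ⟨a, s, hs, h⟩ := (invData A).exists_fraction (φ.comp (algebraMap (R₀ A) (B A))) x
    simp only [RingHom.comp_apply] at hs h
    rw [hc'] at hs h
    rw [hc'] at h
    refine ⟨ψ a / ψ s, ?_⟩
    rw [map_div₀, ← h, mul_div_assoc, div_self hs, mul_one]
  have h2 : ∀ x : B A, IsIntegral k (φ x) := by
    intro x
    obtain ⟨g, hg, hx⟩ := Algebra.IsIntegral.isIntegral (R := R₀ A) x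
    have h3 : g.map (φ.comp (algebraMap (R₀ A) (B A))) ∈ Polynomial.lifts (algebraMap k E) := by
      rw [Polynomial.lifts_iff_coeff_lifts]
      intro n
      rw [Polynomial.coeff_map]
      exact h1 _
    obtain ⟨q, hq, -, hqm⟩ := Polynomial.lifts_and_degree_eq_and_monic h3 (hg.map _)
    refine ⟨q, hqm, ?_⟩
    rw [← Polynomial.eval_map, hq, Polynomial.eval_map, ← Polynomial.hom_eval₂, hx, map_zero]
  refine ⟨fun e => ?_⟩
  obtain ⟨x, y, hy, he⟩ := hφ e
  have h4 : e = φ x * (φ y)⁻¹ := by rw [← he, mul_assoc, mul_inv_cancel₀ hy, mul_one]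
  rw [h4]
  exact (h2 x).isAlgebraic.mul (h2 y).isAlgebraic.inv

/-- Field-valued points of `B` generating the field have algebraically closed values. -/
theorem isAlgClosed {E : Type u} [Field E] (φ : B A →+* E)
    (hφ : ∀ e : E, ∃ x y : B A, φ y ≠ 0 ∧ e * φ y = φ x) : IsAlgClosed E := by
  have hP : (RingHom.ker φ).IsPrime := RingHom.ker_isPrime φ
  have hm : (RingHom.ker φ).IsMaximal := isMaximal A _
  have hs : Function.Surjective φ := by
    intro e
    obtain ⟨x, y, hy, he⟩ := hφ e
    have hF := (Ideal.Quotient.maximal_ideal_iff_isField_quotient _).1 hm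
    obtain ⟨z, hz⟩ := hF.mul_inv_cancel (a := Ideal.Quotient.mk (RingHom.ker φ) y) (by
      intro h
      rw [Ideal.Quotient.eq_zero_iff_mem, RingHom.mem_ker] at h
      exact hy h)
    obtain ⟨z, rfl⟩ := Ideal.Quotient.mk_surjective z
    have h1 : φ (y * z - 1) = 0 := by
      rw [← RingHom.mem_ker, ← Ideal.Quotient.eq_zero_iff_mem, map_sub, map_mul, hz, map_one,
        sub_self]
    have h2 : φ y * φ z = 1 := by
      rw [map_sub, map_mul, map_one, sub_eq_zero] at h1
      exact h1
    refine ⟨x * z, ?_⟩
    rw [map_mul, ← he, mul_assoc, h2, mul_one]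
  refine IsAlgClosed.of_exists_root E fun f hf hi => ?_
  obtain ⟨F, hF, hFd, hFm⟩ := Polynomial.lifts_and_degree_eq_and_monic
    ((Polynomial.mem_lifts _).2 (Polynomial.map_surjective φ hs f)) hf
  obtain ⟨t, ht⟩ := exists_root (K A) (R₀ A) F hFm (by
    rw [hFd]
    exact (Polynomial.degree_pos_of_irreducible hi).ne')
  refine ⟨φ t, ?_⟩
  rw [← hF, Polynomial.eval_map, Polynomial.eval₂_hom, ht, map_zero]

end Hull

end

end Groth.Agent.Etbc.H188.FlatHull
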