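import Groth.Prelude.Def_EtAcyc
import Groth.Agent.Etcore.Torsion
import Groth.Agent.EtpbcA.RpushTors
import Groth.Agent.EtpbcB.TorsEtN

/-!
# `L`-torsion sheaves

* `exists_nsmul_eq_zero_of_compact`: sections over quasi-compact étale schemes are killed by an
  integer with prime factors in `L`;
* `isLTorsion_push`: direct images along quasi-compact morphisms; `isLTorsion_of_epi`.
-/

set_option autoImplicit false
universe u

open CategoryTheory CategoryTheory.Limits AlgebraicGeometry Opposite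

namespace Groth.Agent.Etbc.H188.LTor

open Groth.Agent.Etbase

variable {X Y : Scheme.{u}} {L : Set ℕ}

theorem primesIn_one : EtAcyc.PrimesIn L 1 :=
  ⟨one_pos, fun _ hp h => absurd (Nat.dvd_one.1 h) hp.one_lt.ne'⟩

theorem primesIn_mul {a b : ℕ} (ha : EtAcyc.PrimesIn L a) (hb : EtAcyc.PrimesIn L b) :
    EtAcyc.PrimesIn L (a * b) :=
  ⟨Nat.mul_pos ha.1 hb.1, fun p hp hpab => (hp.dvd_mul.1 hpab).elim (ha.2 p hp) (hb.2 p hp)⟩

/-- Sections of an `L`-torsion sheaf over a quasi-compact étale scheme. -/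
theorem exists_nsmul_eq_zero_of_compact (F : EtCoh.Ab X) (hF : EtAcyc.IsLTorsion L F)
    (U : X.Etale) [CompactSpace U.left] (s : EtCoh.sect F U) :
    ∃ m : ℕ, EtAcyc.PrimesIn L m ∧ m • s = 0 := by
  let W : {m : ℕ // EtAcyc.PrimesIn L m} → Set U.left :=
    fun m => {x | EtSections.VanishesAt F U (m.1 • s) x}
  have hW : ∀ m, IsOpen (W m) := fun m => EtSections.isOpen_vanishesAt F U _
  have hcov : (⋃ m, W m) = Set.univ := by
    rw [Set.eq_univ_iff_forall]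
    intro x
    obtain ⟨V, g, m, ⟨v, hv⟩, hm, hg⟩ := hF U s x
    refine Set.mem_iUnion.2 ⟨⟨m, hm⟩, V, g, v, hv, ?_⟩
    rw [map_nsmul]
    exact hg
  obtain ⟨T, hT⟩ := isCompact_univ.elim_finite_subcover W hW (by rw [hcov])
  have hprod : EtAcyc.PrimesIn L (∏ m ∈ T, m.1) := by
    refine Finset.prod_induction (fun m : {m : ℕ // EtAcyc.PrimesIn L m} => m.1)
      (fun m => EtAcyc.PrimesIn L m) (fun _ _ => primesIn_mul) primesIn_one fun m _ => m.2
  refine ⟨∏ m ∈ T, m.1, hprod, ?_⟩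
  apply EtSections.eq_zero_of_vanishesAt F U
  intro x
  obtain ⟨m, hm⟩ := Set.mem_iUnion.1 (hT (Set.mem_univ x))
  obtain ⟨hmT, V, g, v, hv, h0⟩ := Set.mem_iUnion.1 hm
  refine ⟨V, g, v, hv, ?_⟩
  obtain ⟨c, hc⟩ := Finset.dvd_prod_of_mem (fun m : {m : ℕ // EtAcyc.PrimesIn L m} => m.1) hmT
  rw [hc, mul_comm, mul_smul, map_nsmul]
  rw [h0, smul_zero]

/-- Direct images of `L`-torsion sheaves along quasi-compact morphisms. -/
theorem isLTorsion_push (f : X ⟶ Y) [QuasiCompact f] (F : EtCoh.Ab X)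
    (hF : EtAcyc.IsLTorsion L F) : EtAcyc.IsLTorsion L ((EtCoh.push f).obj F) := by
  intro U s x
  obtain ⟨V, g, hV, -, v, hv⟩ := Groth.Agent.Etrest.Site0.exists_affine U x
  have := Groth.Agent.EtpbcA.RpushTors.compactSpace_bc f V hV
  obtain ⟨m, hm, h⟩ := exists_nsmul_eq_zero_of_compact F hF ((EtCoh.bc f).obj V)
    (((EtCoh.push f).obj F).obj.map g.op s)
  exact ⟨V, g, m, ⟨v, hv⟩, hm, h⟩

theorem isLTorsion_of_epi {F G : EtCoh.Ab X} (φ : F ⟶ G) [Epi φ] (hF : EtAcyc.IsLTorsion L F) :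
    EtAcyc.IsLTorsion L G :=
  Groth.Agent.EtpbcB.TorsEtN.torsionN_of_epi (N := {m | EtAcyc.PrimesIn L m}) φ hF

theorem isLTorsion_of_mono {F G : EtCoh.Ab X} (φ : F ⟶ G) [Mono φ] (hG : EtAcyc.IsLTorsion L G) :
    EtAcyc.IsLTorsion L F :=
  Groth.Agent.EtpbcB.TorsEtN.torsionN_of_mono (N := {m | EtAcyc.PrimesIn L m}) φ hG

end Groth.Agent.Etbc.H188.LTor
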