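import Groth.Agent.Etbc.H188.ZDBase
import Groth.Agent.Etbc.H234.ConstDev
import Groth.Agent.Etbc.H231.AcycComp
import Groth.Agent.EtpbcB.BCIso

/-!
# Acyclic schemes over separably closed fields

* `exists_iso_constU`: sheaves on `Spec K`, `K` separably closed, are constant;
* `bijective_Hpull`: for `b : W ⟶ Spec K`, `W` an `N`-acyclic qcqs scheme, `G` an `L`-torsion sheaf on
  `Spec K`: `H^q(Spec K, G) → H^q(W, b⁻¹ G)` is bijective for `q ≤ N`.
-/

set_option autoImplicit false
universe u

open CategoryTheory CategoryTheory.Limits AlgebraicGeometry Opposite IsLocalRing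

namespace Groth.Agent.Etbc.H188.PointLemma

open EtCoh Groth.Agent.EtpbcB Groth.Agent.EtpbcB.BCIso Groth.Agent.Etrest.StrictLoc
  Groth.Agent.Etbc.H188.ZDBase Groth.Agent.Etbc.H234.ConstDev

variable (K : Type u) [Field K] [IsSepClosed K]

theorem isSepClosed_residue : IsSepClosed (ResidueField K) :=
  isSepClosed_of_bijective (residue K) (bijective_residue (Field.toIsField _))

theorem exists_iso_constU (G : Ab (Spec (CommRingCat.of K))) :
    Nonempty ((Etrest.HpullConst.constU (Spec (CommRingCat.of K))).obj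
      (G.obj.obj (op (top (Spec (CommRingCat.of K))))) ≅ G) := by
  let adj := constantSheafAdj (Spec (CommRingCat.of K)).smallEtaleTopology AddCommGrpCat.{u + 1}
    (EtCore.topIsTerminal (Spec (CommRingCat.of K)))
  have h0 : ConnectedSpace ↥(Spec (CommRingCat.of K)) :=
    inferInstanceAs (ConnectedSpace (PrimeSpectrum K))
  have h0' : Nonempty ↥(Spec (CommRingCat.of K)) := inferInstance
  have h1 : IsIso (adj.unit.app (G.obj.obj (op (top (Spec (CommRingCat.of K)))))) :=
    isIso_unit_constU (Spec (CommRingCat.of K)) _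
  have h2 := adj.right_triangle_components G
  have h3 : IsIso (((sheafSections (Spec (CommRingCat.of K)).smallEtaleTopology
      AddCommGrpCat.{u + 1}).obj (op (top (Spec (CommRingCat.of K))))).map (adj.counit.app G)) := by
    have h4 : IsIso (adj.unit.app (((sheafSections (Spec (CommRingCat.of K)).smallEtaleTopology
      AddCommGrpCat.{u + 1}).obj (op (top (Spec (CommRingCat.of K))))).obj G)) := h1
    have h5 : IsIso (adj.unit.app (((sheafSections (Spec (CommRingCat.of K)).smallEtaleTopology
      AddCommGrpCat.{u + 1}).obj (op (top (Spec (CommRingCat.of K))))).obj G) ≫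
      ((sheafSections (Spec (CommRingCat.of K)).smallEtaleTopology
      AddCommGrpCat.{u + 1}).obj (op (top (Spec (CommRingCat.of K))))).map (adj.counit.app G)) := by
      rw [h2]
      exact IsIso.id _
    exact @IsIso.of_isIso_comp_left _ _ _ _ _ _ _ h4 h5
  have h6 : IsIso (adj.counit.app G) := by
    apply isIso_of_bijAt_top
    rw [bijAt_iff_isIso]
    exact h3
  exact ⟨asIso (adj.counit.app G)⟩

theorem grpLTorsion_sections {L : Set ℕ} {G : Ab (Spec (CommRingCat.of K))}
    (hG : EtAcyc.IsLTorsion L G) :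
    GrpLTorsion L (G.obj.obj (op (top (Spec (CommRingCat.of K))))) := by
  rw [H231.AcycComp.isLTorsion_iff_stalk] at hG
  intro m
  obtain ⟨n, hn, h⟩ := hG K (𝟙 _) ((SepClosedPoint.gammaIsoStalk K).hom.app G m)
  refine ⟨n, hn, ?_⟩
  rw [← map_nsmul] at h
  have hb : Function.Bijective ((SepClosedPoint.gammaIsoStalk K).hom.app G) :=
    ConcreteCategory.bijective_of_isIso _
  apply hb.1
  rw [h, map_zero]

variable {K}

theorem bijective_Hpull {W : Scheme.{u}} [CompactSpace W] [QuasiSeparatedSpace W]
    (b : W ⟶ Spec (CommRingCat.of K)) [PreservesFiniteLimits (pull b)] {L : Set ℕ} {N : ℕ}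
    (hW : EtAcyc.IsAcyclicSchemeN L N W) (G : Ab (Spec (CommRingCat.of K)))
    (hG : EtAcyc.IsLTorsion L G) (q : ℕ) (hq : q ≤ N) :
    Function.Bijective (EtCore.Hpull b G q) := by
  have := isSepClosed_residue K
  obtain ⟨e⟩ := exists_iso_constU K G
  rw [Etrest.HpullConst.bijective_Hpull_iff_of_iso b q e.symm]
  exact bijective_Hpull_constU b hW (isAcyclicSchemeN_strictHens K L N) _
    (grpLTorsion_sections K hG) q hq

end Groth.Agent.Etbc.H188.PointLemma
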